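import Cfsg.Agent.Lib.RuStd.Defs

/-!
Kernel checks on the tables of the Sylow subgroup and on the two lifts.
-/

set_option autoImplicit false
set_option maxRecDepth 100000
set_option Elab.async false

namespace CfsgLib.RuStd

open CfsgLib.CosetEnum CfsgLib.RuGroup

theorem genLine_ok : allUp genLineOK (nat_lit 12) (nat_lit 0) = true := by decide +kernel

theorem key_zero : (Nat.beq (keyOf 0) (keyW []) && rootMask != 0 && iRoots.all (fun e => decide (e.1 < 16384))) = true := by
  decide +kernel

theorem elem_ok0 : allUp elemOK (nat_lit 12) (nat_lit 0) = true := by decide +kernel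

theorem elem_ok1 : allUp elemOK (nat_lit 12) (nat_lit 4096) = true := by decide +kernel

theorem elem_ok2 : allUp elemOK (nat_lit 12) (nat_lit 8192) = true := by decide +kernel

theorem elem_ok3 : allUp elemOK (nat_lit 12) (nat_lit 12288) = true := by decide +kernel

theorem cov_ok : allUp invCov (nat_lit 14) (nat_lit 0) = true := by decide +kernel

theorem grow_ok : Nat.beq (grow iEdges rootMask) iMask = true := by decide +kernel

theorem roots_ok : iRoots.all rootOK = true := by decide +kernel

theorem lift_ok : liftOK = true := by decide +kernel

theorem sqrt_ok : sqrtOK = true := by decide +kernel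

theorem free_ok : allUp freeAt (nat_lit 12) (nat_lit 0) = true := by decide +kernel

end CfsgLib.RuStd
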