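import Cfsg.Agent.Lib.RuGroup.MultCover
import Cfsg.Agent.Lib.RuGroup.Main
import Cfsg.Agent.Lib.RuStd.Checks

/-!
The group on the lines has two classes of involutions, and those of the second class are not squares.
-/

set_option autoImplicit false
set_option maxRecDepth 100000
set_option linter.style.haveILetI false

namespace CfsgLib.RuStd

open CfsgLib.CosetEnum CfsgLib.RuGroup Cfsg.Spor

attribute [local irreducible] el keyW wordImg sameBase keyOf edge gImg

theorem small_of_small4 {w : List ℕ} (h : small4 w = true) : Small w := fun g hg => by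
  simp only [small4, List.all_eq_true, decide_eq_true_eq] at h
  have := h g hg
  omega

theorem lift_small : small4 xA = true ∧ small4 rA = true ∧ small4 xC = true ∧ small4 rC = true ∧
    small4 wB = true ∧ small10 cAC = true := by
  have h := lift_ok
  simp only [liftOK, Bool.and_eq_true, List.all_cons, List.all_nil, Bool.and_true] at h
  obtain ⟨h1, h2, h3, h4, h5⟩ := h.1.1.1.1.1.1.1.1.1.1.1
  exact ⟨h1, h2, h3, h4, h5, h.1.1.1.1.1.1.1.1.1.1.2⟩

theorem small_cls (c : ℕ) : Small (clsW c) := by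
  obtain ⟨hx, -, -, -, hb, -⟩ := lift_small
  unfold clsW
  split_ifs
  · exact small_append (small_append (small_append (small_of_small4 hx) (small_of_small4 hx))
      (small_of_small4 hx)) (small_of_small4 hx)
  · exact small_of_small4 hb

/-- a word in the lattice group -/
noncomputable def fw (w : List ℕ) : fourRu := (w.map genR).prod

theorem fw_append (u w : List ℕ) : fw (u ++ w) = fw u * fw w := by simp [fw]

theorem fw_nil : fw [] = 1 := rfl

theorem fw_eq {u w : List ℕ} (hu : Small u) (hw : Small w) (h : sameVec u w = true) : fw u = fw w := by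
  simp only [sameVec, List.all_eq_true] at h
  rw [← inv_mul_eq_one]
  refine eq_one_of_base fun c hc hc' => ?_
  have e : vecAct (fw u) ⟨c, hc'⟩ = vecAct (fw w) ⟨c, hc'⟩ := by
    refine Fin.ext ?_
    rw [fw, fw, vecAct_word hu, vecAct_word hw]
    exact Nat.eq_of_beq_eq_true (h c hc)
  rw [map_mul, map_inv, Equiv.Perm.mul_apply, Equiv.Perm.inv_eq_iff_eq]
  exact e.symm

theorem lineAct_fw (w : List ℕ) : lineAct (fw w) = ((el w : RuP) : Equiv.Perm (Fin 4060)) := by
  rw [fw, map_list_prod, List.map_map]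
  unfold el
  rfl

theorem el_nine : el [9, 9] = 1 := Subtype.ext (by
  rw [← lineAct_fw, show fw [9, 9] = genR 9 * genR 9 by simp [fw], map_mul, MonoidHom.mem_ker.1 nine_ker]
  simp)

theorem el_of_vec {u w : List ℕ} (hu : Small u) (hw : Small w) (h : sameVec u w = true) : el u = el w :=
  Subtype.ext (by rw [← lineAct_fw, ← lineAct_fw, fw_eq hu hw h])

theorem rep_one_sq : el wB * el wB = 1 := by
  have h := lift_ok
  simp only [liftOK, Bool.and_eq_true] at h
  have hs := small_of_small4 lift_small.2.2.2.2.1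
  rw [← el_append, el_of_vec (small_append hs hs) (fun g hg => by simp at hg; omega) h.2, el_nine]

theorem gImg_eq {j : ℕ} (hj : j < 5) {p : ℕ} (hp : p < 4060) :
    gImg j p = wordImg (mGens.getD j []) p := by
  have h := allUp_spec genLine_ok p (Nat.zero_le _) (by norm_num; omega)
  simp only [genLineOK, genImgOK, band_eq_true, ltB_iff.2 hp, pick_true] at h
  rcases (show j = 0 ∨ j = 1 ∨ j = 2 ∨ j = 3 ∨ j = 4 by omega) with rfl | rfl | rfl | rfl | rfl
  exacts [Nat.eq_of_beq_eq_true h.1.1, Nat.eq_of_beq_eq_true h.1.2, Nat.eq_of_beq_eq_true h.2.1,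
    Nat.eq_of_beq_eq_true h.2.2.1, Nat.eq_of_beq_eq_true h.2.2.2]

theorem elem_check (x : ℕ) (hx : x < 16384) : elemOK x = true := by
  by_cases h1 : x < 4096
  · exact allUp_spec elem_ok0 x (Nat.zero_le _) (by norm_num; omega)
  by_cases h2 : x < 8192
  · exact allUp_spec elem_ok1 x (Nat.le_of_not_lt h1) (by norm_num; omega)
  by_cases h3 : x < 12288
  · exact allUp_spec elem_ok2 x (Nat.le_of_not_lt h2) (by norm_num; omega)
  exact allUp_spec elem_ok3 x (Nat.le_of_not_lt h3) (by norm_num; omega)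

theorem edge_check {j x : ℕ} (hj : j < 5) (hx : x < 16384) :
    edge j x < 16384 ∧ ∀ i < 4, keyComp (keyOf x) i < 4060 ∧
      keyComp (keyOf (edge j x)) i = wordImg (mGens.getD j []) (keyComp (keyOf x) i) := by
  have h := elem_check x hx
  simp only [elemOK, band_eq_true] at h
  have he : edgeOK j x = true := by
    rcases (show j = 0 ∨ j = 1 ∨ j = 2 ∨ j = 3 ∨ j = 4 by omega) with rfl | rfl | rfl | rfl | rfl
    exacts [h.1.1.1, h.1.1.2, h.1.2.1, h.1.2.2.1, h.1.2.2.2]
  simp only [edgeOK, strict_eq, moveKey, moveOne, band_eq_true, ltB_iff] at he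
  obtain ⟨hy, ⟨⟨a0, b0⟩, a1, b1⟩, ⟨a2, b2⟩, a3, b3⟩ := he
  refine ⟨hy, fun i hi => ?_⟩
  have key : ∀ {a : ℕ}, keyComp (keyOf x) i < 4060 → a = gImg j (keyComp (keyOf x) i) →
      a = wordImg (mGens.getD j []) (keyComp (keyOf x) i) := fun h1 h2 => by rw [h2, gImg_eq hj h1]
  rcases (show i = 0 ∨ i = 1 ∨ i = 2 ∨ i = 3 by omega) with rfl | rfl | rfl | rfl
  exacts [⟨a0, key a0 (Nat.eq_of_beq_eq_true b0)⟩, ⟨a1, key a1 (Nat.eq_of_beq_eq_true b1)⟩,
    ⟨a2, key a2 (Nat.eq_of_beq_eq_true b2)⟩, ⟨a3, key a3 (Nat.eq_of_beq_eq_true b3)⟩]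

theorem word_check {x : ℕ} (hx : x < 16384) :
    (∀ j ∈ wOf x, j < 5) ∧ walk (wOf x) 0 = x := by
  have h := elem_check x hx
  simp only [elemOK, band_eq_true, List.all_eq_true, ltB_iff] at h
  exact ⟨h.2.1.1, Nat.eq_of_beq_eq_true h.2.1.2⟩

theorem walk_lt : ∀ (w : List ℕ), (∀ j ∈ w, j < 5) → ∀ x, x < 16384 → walk w x < 16384
  | [], _, x, hx => hx
  | j :: w, hw, x, hx =>
    (edge_check (hw j List.mem_cons_self)
      (walk_lt w (fun i hi => hw i (List.mem_cons_of_mem _ hi)) x hx)).1

theorem mExp_small (w : List ℕ) : Small (mExp w) := small_mExp w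

theorem image_walk : ∀ (w : List ℕ), (∀ j ∈ w, j < 5) → ∀ i < 4,
    wordImg (mExp w) ([0, 65, 2, 1].getD i 0) = keyComp (keyOf (walk w 0)) i := by
  intro w
  induction w with
  | nil =>
    intro _ i hi
    have h := key_zero
    simp only [Bool.and_eq_true] at h
    show wordImg [] ([0, 65, 2, 1].getD i 0) = keyComp (keyOf 0) i
    rw [Nat.eq_of_beq_eq_true h.1.1]
    obtain ⟨c0, c1, c2, c3⟩ := keyComp_W [] small_nil
    rcases (show i = 0 ∨ i = 1 ∨ i = 2 ∨ i = 3 by omega) with rfl | rfl | rfl | rfl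
    exacts [c0.symm, c1.symm, c2.symm, c3.symm]
  | cons j w ih =>
    intro hw i hi
    have hw' : ∀ k ∈ w, k < 5 := fun k hk => hw k (List.mem_cons_of_mem _ hk)
    obtain ⟨hlt, he⟩ := (edge_check (hw j List.mem_cons_self) (walk_lt w hw' 0 (by norm_num))).2 i hi
    show wordImg (mGens.getD j [] ++ mExp w) _ = keyComp (keyOf (edge j (walk w 0))) i
    rw [he, ← ih hw' i hi]
    have hp : [0, 65, 2, 1].getD i 0 < 4060 := base_lt i
    rw [← el_val (small_append (mGens_small j) (small_mExp w)) ⟨_, hp⟩, el_append, Subgroup.coe_mul,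
      Equiv.Perm.mul_apply, el_val (mGens_small j), el_val (small_mExp w)]

/-- an element of the Sylow subgroup -/
noncomputable def elem (x : ℕ) : RuP := el (mExp (wOf x))

theorem elem_eq (x : ℕ) : elem x = ((wOf x).map gW).prod := el_mExp _

theorem image_elem {x : ℕ} (hx : x < 16384) {i : ℕ} (hi : i < 4) :
    wordImg (mExp (wOf x)) ([0, 65, 2, 1].getD i 0) = keyComp (keyOf x) i := by
  rw [image_walk _ (word_check hx).1 i hi, (word_check hx).2]

theorem el_eq_of_base {u v : List ℕ} (hu : Small u) (hv : Small v)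
    (h : ∀ i < 4, wordImg u ([0, 65, 2, 1].getD i 0) = wordImg v ([0, 65, 2, 1].getD i 0)) : el u = el v := by
  refine el_eq hu hv ?_
  unfold sameBase
  refine List.all_eq_true.2 fun L hL => ?_
  simp only [fullLevels, List.mem_cons, List.not_mem_nil, or_false] at hL
  rcases hL with rfl | rfl | rfl | rfl
  · exact Nat.beq_eq ▸ h 0 (by norm_num)
  · exact Nat.beq_eq ▸ h 1 (by norm_num)
  · exact Nat.beq_eq ▸ h 2 (by norm_num)
  · exact Nat.beq_eq ▸ h 3 (by norm_num)

theorem gW_mul_elem {j x : ℕ} (hj : j < 5) (hx : x < 16384) : gW j * elem x = elem (edge j x) := by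
  rw [gW, elem, elem, ← el_append]
  refine el_eq_of_base (small_append (mGens_small j) (small_mExp _)) (small_mExp _) fun i hi => ?_
  obtain ⟨hy, h⟩ := edge_check hj hx
  rw [image_elem hy hi, (h i hi).2, ← image_elem hx hi]
  have hp : [0, 65, 2, 1].getD i 0 < 4060 := base_lt i
  rw [← el_val (small_append (mGens_small j) (small_mExp _)) ⟨_, hp⟩, el_append, Subgroup.coe_mul,
    Equiv.Perm.mul_apply, el_val (mGens_small j), el_val (small_mExp _)]

theorem prod_mul_elem : ∀ (w : List ℕ), (∀ j ∈ w, j < 5) → ∀ x, x < 16384 →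
    (w.map gW).prod * elem x = elem (walk w x)
  | [], _, x, _ => one_mul _
  | j :: w, hw, x, hx => by
    have hw' : ∀ k ∈ w, k < 5 := fun k hk => hw k (List.mem_cons_of_mem _ hk)
    rw [List.map_cons, List.prod_cons, mul_assoc, prod_mul_elem w hw' x hx,
      gW_mul_elem (hw j List.mem_cons_self) (walk_lt w hw' x hx)]
    rfl

theorem elem_mul {x y : ℕ} (hx : x < 16384) (hy : y < 16384) : elem x * elem y = elem (walk (wOf x) y) := by
  rw [elem_eq x, prod_mul_elem _ (word_check hx).1 y hy]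

theorem elem_zero : elem 0 = 1 := by
  rw [elem_eq, show wOf 0 = [] by rfl]
  rfl

theorem elem_injOn {x y : ℕ} (hx : x < 16384) (hy : y < 16384) (h : elem x = elem y) : x = y := by
  have hk : keyOf x = keyOf y := by
    have hb : ∀ z, keyOf z < 281474976710656 := fun z => by
      unfold keyOf
      exact lt_of_lt_of_le (at_lt kTab 48 z) (by norm_num)
    refine key_of_comp (hb x) (hb y) fun i hi => ?_
    rw [← image_elem hx hi, ← image_elem hy hi]
    have hp : [0, 65, 2, 1].getD i 0 < 4060 := base_lt i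
    rw [← el_val (small_mExp _) ⟨_, hp⟩, ← el_val (small_mExp _) ⟨_, hp⟩]
    exact congrArg (fun g : RuP => ((g : Equiv.Perm (Fin 4060)) ⟨_, hp⟩).val) h
  let o : Fin 16384 → ℕ := fun r => oTab.at' (nat_lit 14) r.1
  have hrow : ∀ r : Fin 16384, o r < 16384 ∧ ∀ h : r.1 + 1 < 16384, keyOf (o r) < keyOf (o ⟨r.1 + 1, h⟩) := by
    intro r
    have h := elem_check r.1 r.2
    simp only [elemOK, strict_eq, band_eq_true, ltB_iff] at h
    refine ⟨h.2.2.1, fun hr => ?_⟩
    have h' := h.2.2.2
    rw [show Nat.beq r.1 16383 = false from Bool.eq_false_iff.mpr fun e => by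
      have := Nat.eq_of_beq_eq_true e; omega, pick_false] at h'
    exact ltB_iff.mp h'
  let o' : Fin 16384 → Fin 16384 := fun r => ⟨o r, (hrow r).1⟩
  have hmono : StrictMono fun r => keyOf (o' r).1 := by
    refine Fin.strictMono_iff_lt_succ.2 fun r => ?_
    exact (hrow r.castSucc).2 (by show r.1 + 1 < 16384; omega)
  have hinj : Function.Injective o' := fun a b e => hmono.injective ((congrArg (fun z : Fin 16384 => keyOf z.1) e : keyOf (o' a).1 = keyOf (o' b).1))
  have hsur := Finite.injective_iff_surjective.1 hinj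
  obtain ⟨r, hr⟩ := hsur ⟨x, hx⟩
  obtain ⟨s, hs⟩ := hsur ⟨y, hy⟩
  have hr' : (o' r).1 = x := congrArg Fin.val hr
  have hs' : (o' s).1 = y := congrArg Fin.val hs
  rw [← hr', ← hs', show r = s from hmono.injective (by simp only [hr', hs']; exact hk)]

/-- the Sylow subgroup -/
noncomputable def sylS : Subgroup RuP where
  carrier := {g | ∃ x, x < 16384 ∧ elem x = g}
  one_mem' := ⟨0, by norm_num, elem_zero⟩
  mul_mem' := fun {a b} ⟨x, hx, ha⟩ ⟨y, hy, hb⟩ =>
    ⟨walk (wOf x) y, walk_lt _ (word_check hx).1 y hy, by rw [← ha, ← hb, elem_mul hx hy]⟩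
  inv_mem' := fun {a} ⟨x, hx, ha⟩ => by
    have hp : ∀ n : ℕ, ∃ y, y < 16384 ∧ elem y = a ^ n := by
      intro n
      induction n with
      | zero => exact ⟨0, by norm_num, by rw [elem_zero, pow_zero]⟩
      | succ n ih =>
        obtain ⟨y, hy, e⟩ := ih
        exact ⟨walk (wOf x) y, walk_lt _ (word_check hx).1 y hy, by rw [← elem_mul hx hy, ha, e, pow_succ']⟩
    obtain ⟨y, hy, e⟩ := hp (orderOf a - 1)
    refine ⟨y, hy, e.trans (eq_inv_of_mul_eq_one_left ?_)⟩
    rw [← pow_succ, Nat.sub_add_cancel (orderOf_pos a), pow_orderOf_eq_one]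

theorem natCard_sylS : Nat.card sylS = 2 ^ 14 := by
  have hb : Function.Bijective fun x : Fin 16384 => (⟨elem x.1, x.1, x.2, rfl⟩ : sylS) :=
    ⟨fun a b e => Fin.ext (elem_injOn a.2 b.2 (congrArg Subtype.val e)), fun ⟨g, x, hx, e⟩ =>
      ⟨⟨x, hx⟩, Subtype.ext e⟩⟩
  rw [← Nat.card_eq_of_bijective _ hb, Nat.card_fin]
  norm_num

/-- the representatives -/
noncomputable def repC (c : ℕ) : RuP := el (clsW c)

/-- conjugate to a representative -/
def Known (g : RuP) : Prop := IsConj g (repC 0) ∨ IsConj g (repC 1)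

theorem Known.conj {g : RuP} (h : Known g) (c : RuP) : Known (c * g * c⁻¹) := by
  have e : IsConj (c * g * c⁻¹) g := (isConj_iff.2 ⟨c, rfl⟩ : IsConj g _).symm
  exact h.imp e.trans e.trans

theorem known_root {e : ℕ × ℕ × List ℕ} (he : e ∈ iRoots) : e.1 < 16384 ∧ Known (elem e.1) := by
  have h := List.all_eq_true.1 roots_ok e he
  simp only [rootOK, Bool.and_eq_true, decide_eq_true_eq] at h
  obtain ⟨⟨⟨⟨hx, hc⟩, hs⟩, hw⟩, hb⟩ := h
  refine ⟨hx, ?_⟩
  have hs' := small_of hs
  have heq := el_eq (small_append hs' (small_mExp _)) (small_append (small_cls _) hs') hb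
  rw [el_append, el_append] at heq
  have hconj : IsConj (elem e.1) (repC e.2.1) :=
    isConj_iff.2 ⟨el e.2.2, by rw [elem, repC, heq, mul_inv_cancel_right]⟩
  rcases (show e.2.1 = 0 ∨ e.2.1 = 1 by omega) with h0 | h0 <;> rw [h0] at hconj
  · exact Or.inl hconj
  · exact Or.inr hconj

theorem gW_sq {j : ℕ} (hj : j < 5) : gW j * gW j = 1 := (classW_spec (gen_class j hj)).2.2.2

theorem conjI_spec {j y : ℕ} (hj : j < 5) (hy : y < 16384) :
    conjI j y < 16384 ∧ elem (conjI j y) = gW j * elem y * (gW j)⁻¹ := by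
  obtain ⟨h0, -⟩ := edge_check hj (show (0 : ℕ) < 16384 by norm_num)
  have h1 := walk_lt _ (word_check hy).1 _ h0
  refine ⟨(edge_check hj h1).1, ?_⟩
  show elem (edge j (walk (wOf y) (edge j 0))) = _
  rw [← gW_mul_elem hj h1, ← elem_mul hy h0, ← gW_mul_elem hj (by norm_num), elem_zero, mul_one,
    inv_eq_of_mul_eq_one_right (gW_sq hj), mul_assoc]

theorem grow_sound : ∀ (es : List (ℕ × ℕ)) (acc : ℕ),
    (∀ x, acc.testBit x = true → x < 16384 ∧ Known (elem x)) →
    ∀ x, (grow es acc).testBit x = true → x < 16384 ∧ Known (elem x)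
  | [], acc, h, x, hx => h x hx
  | e :: es, acc, h, x, hx => by
    change (pick (band (band (ltB e.1 16384) (ltB e.2 5)) (Nat.beq (acc >>> e.1 % 2) 1))
      (strict (Nat.lor acc (2 ^ conjI e.2 e.1)) fun a' => grow es a') 0).testBit x = true at hx
    cases hc : band (band (ltB e.1 16384) (ltB e.2 5)) (Nat.beq (acc >>> e.1 % 2) 1)
    · rw [hc, pick_false] at hx
      simp at hx
    · rw [hc, pick_true, strict_eq] at hx
      simp only [band_eq_true, ltB_iff] at hc
      obtain ⟨⟨h1, h2⟩, h3⟩ := hc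
      have hbit : acc.testBit e.1 = true := by
        rw [Nat.testBit_eq_decide_div_mod_eq, ← Nat.shiftRight_eq_div_pow, Nat.eq_of_beq_eq_true h3]
        simp
      obtain ⟨c1, c2⟩ := conjI_spec h2 h1
      refine grow_sound es _ (fun y hy => ?_) x hx
      change (acc ||| 2 ^ conjI e.2 e.1).testBit y = true at hy
      rw [Nat.testBit_or, Bool.or_eq_true, Nat.testBit_two_pow, decide_eq_true_eq] at hy
      rcases hy with hy | hy
      · exact h y hy
      · subst hy
        exact ⟨c1, c2 ▸ (h _ hbit).2.conj _⟩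

theorem known_root_mask {x : ℕ} (hx : rootMask.testBit x = true) : x < 16384 ∧ Known (elem x) := by
  have key : ∀ l : List (ℕ × ℕ × List ℕ), (l.foldr (fun (e : ℕ × ℕ × List ℕ) a => a ||| 2 ^ e.1) 0).testBit x = true →
      ∃ e ∈ l, e.1 = x := by
    intro l
    induction l with
    | nil => simp
    | cons e l ih =>
      intro h
      rw [List.foldr_cons, Nat.testBit_or, Bool.or_eq_true, Nat.testBit_two_pow, decide_eq_true_eq] at h
      rcases h with h | h
      · obtain ⟨f, hf, hfx⟩ := ih h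
        exact ⟨f, List.mem_cons_of_mem _ hf, hfx⟩
      · exact ⟨e, List.mem_cons_self, h⟩
  obtain ⟨e, he, rfl⟩ := key iRoots hx
  exact known_root he

theorem known_elem {x : ℕ} (hx : x < 16384) (h2 : elem x * elem x = 1) (h1 : elem x ≠ 1) :
    Known (elem x) := by
  have hx0 : x ≠ 0 := fun e => h1 (e ▸ elem_zero)
  have hw : walk (wOf x) x = 0 := by
    refine elem_injOn (walk_lt _ (word_check hx).1 x hx) (by norm_num) ?_
    rw [← elem_mul hx hx, h2, elem_zero]
  have h := allUp_spec cov_ok x (Nat.zero_le _) (by norm_num; omega)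
  simp only [invCov] at h
  rw [show Nat.beq x 0 = false from Bool.eq_false_iff.mpr fun e => hx0 (Nat.eq_of_beq_eq_true e), pick_false,
    hw, show Nat.beq 0 0 = true from rfl, pick_true] at h
  have hbit : iMask.testBit x = true := by
    rw [Nat.testBit_eq_decide_div_mod_eq, ← Nat.shiftRight_eq_div_pow]
    exact decide_eq_true (Nat.eq_of_beq_eq_true h)
  rw [← Nat.eq_of_beq_eq_true grow_ok] at hbit
  exact (grow_sound iEdges rootMask (fun y hy => known_root_mask hy) x hbit).2

/-- **Every involution is conjugate to one of the two.** -/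
theorem known_of_invol {g : RuP} (h2 : g * g = 1) (h1 : g ≠ 1) : Known g := by
  haveI : Fact (Nat.Prime 2) := ⟨Nat.prime_two⟩
  have hcard : Nat.card RuP = 145926144000 := order_facts.2.1
  have hfac : (145926144000 : ℕ).factorization 2 = 14 := by
    rw [show (145926144000 : ℕ) = 2 ^ 14 * 8906625 by norm_num, Nat.factorization_mul (by norm_num) (by norm_num),
      Finsupp.add_apply, Nat.factorization_pow,
      Nat.factorization_eq_zero_of_not_dvd (show ¬ 2 ∣ 8906625 by norm_num)]
    simp [Nat.prime_two.factorization_self]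
  let S : Sylow 2 RuP := Sylow.ofCard sylS (by rw [natCard_sylS, hcard, hfac])
  have hp : IsPGroup 2 (Subgroup.zpowers g) := by
    refine IsPGroup.of_card (n := 1) ?_
    rw [Nat.card_zpowers, orderOf_eq_prime (by rw [pow_two]; exact h2) h1, pow_one]
  obtain ⟨P, hP⟩ := hp.exists_le_sylow
  obtain ⟨l, hl⟩ := MulAction.exists_smul_eq RuP P S
  have hm : l * g * l⁻¹ ∈ (S : Subgroup RuP) := by
    rw [← hl, Sylow.coe_subgroup_smul]
    exact ⟨g, hP (Subgroup.mem_zpowers g), rfl⟩
  obtain ⟨x, hx, e⟩ := (hm : l * g * l⁻¹ ∈ sylS)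
  have hk := known_elem hx (by rw [e, show l * g * l⁻¹ * (l * g * l⁻¹) = l * (g * g) * l⁻¹ by group, h2]; group)
    (by rw [e]; exact fun h => h1 (conj_eq_one_iff.1 h))
  rw [e] at hk
  have := hk.conj l⁻¹
  rwa [show l⁻¹ * (l * g * l⁻¹) * l⁻¹⁻¹ = g by group] at this

theorem sign_ru (g : RuP) : Equiv.Perm.sign (g : Equiv.Perm (Fin 4060)) = 1 := by
  haveI : IsSimpleGroup RuP := ruP_simple
  let f : RuP →* ℤˣ := Equiv.Perm.sign.comp RuP.subtype
  rcases Subgroup.Normal.eq_bot_or_eq_top (f.normal_ker) with h | h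
  · exfalso
    have hinj : Function.Injective f := (MonoidHom.ker_eq_bot_iff f).1 h
    have := Nat.card_le_card_of_injective f hinj
    rw [order_facts.2.1, Nat.card_eq_fintype_card, Fintype.card_units_int] at this
    omega
  · exact MonoidHom.mem_ker.1 (h ▸ Subgroup.mem_top g : g ∈ f.ker)

theorem sign_of_sq_free {σ : Equiv.Perm (Fin 4060)} (h4 : σ ^ 4 = 1) (hfree : ∀ p, σ (σ p) ≠ p) :
    Equiv.Perm.sign σ = -1 := by
  have hall : ∀ n ∈ σ.cycleType, n = 4 := by
    intro n hn
    have hd : n ∣ 4 := (Equiv.Perm.dvd_of_mem_cycleType hn).trans (orderOf_dvd_of_pow_eq_one h4)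
    have h2 := Equiv.Perm.two_le_of_mem_cycleType hn
    have h4' := Nat.le_of_dvd (by norm_num) hd
    interval_cases n
    · exfalso
      rw [Equiv.Perm.cycleType_def, Multiset.mem_map] at hn
      obtain ⟨c, hc, hcn⟩ := hn
      rw [Finset.mem_val, Equiv.Perm.mem_cycleFactorsFinset_iff] at hc
      obtain ⟨hcyc, hag⟩ := hc
      obtain ⟨p, hp⟩ := hcyc.nonempty_support
      have hcc : c ^ 2 = 1 := by
        have := hcyc.orderOf
        rw [show c.support.card = 2 from hcn] at this
        rw [← this, pow_orderOf_eq_one]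
      refine hfree p ?_
      rw [← hag p hp, ← hag (c p) (Equiv.Perm.apply_mem_support.2 hp), ← Equiv.Perm.mul_apply, ← pow_two, hcc]
      rfl
    · norm_num at hd
    · rfl
  have hsum : σ.cycleType.sum = 4060 := by
    rw [Equiv.Perm.sum_cycleType, Finset.card_eq_iff_eq_univ _ |>.2, Fintype.card_fin]
    refine Finset.eq_univ_of_forall fun p => Equiv.Perm.mem_support.2 fun e => hfree p ?_
    rw [e, e]
  have hrep := Multiset.eq_replicate_card.2 hall
  rw [hrep, Multiset.sum_replicate, smul_eq_mul] at hsum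
  rw [Equiv.Perm.sign_of_cycleType, hrep, Multiset.sum_replicate, Multiset.card_replicate, smul_eq_mul,
    show Multiset.card σ.cycleType = 1015 by omega]
  exact Odd.neg_one_pow ⟨2537, rfl⟩

/-- an element of the second class is not a square -/
theorem not_square {g : RuP} (hg : IsConj g (repC 1)) (y : RuP) : y * y ≠ g := by
  intro h
  obtain ⟨c, hc⟩ := isConj_iff.1 hg
  set v := c * y * c⁻¹ with hv
  have hvv : v * v = repC 1 := by rw [← hc, hv, ← h]; group
  have hsmall : Small wB := small_of_small4 lift_small.2.2.2.2.1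
  have hval : ∀ p : Fin 4060, ((repC 1 : RuP) : Equiv.Perm (Fin 4060)) p ≠ p := by
    intro p e
    have h := allUp_spec free_ok p.1 (Nat.zero_le _) (by norm_num; omega)
    have e' : wordImg wB p.1 = p.1 := by
      rw [← el_val hsmall p]
      exact congrArg Fin.val e
    simp only [freeAt, ltB_iff.2 p.2, pick_true, e'] at h
    rw [show Nat.beq p.1 p.1 = true from Nat.beq_refl _, pick_true] at h
    exact Bool.noConfusion h
  have hb2 : repC 1 * repC 1 = 1 := rep_one_sq
  have h4 : ((v : RuP) : Equiv.Perm (Fin 4060)) ^ 4 = 1 := by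
    rw [← SubgroupClass.coe_pow, show v ^ 4 = (v * v) * (v * v) by rw [pow_succ, pow_succ, pow_two]; group, hvv,
      hb2]
    rfl
  have := sign_of_sq_free h4 fun p e => hval p (by
    rw [← hvv, Subgroup.coe_mul, Equiv.Perm.mul_apply, e])
  rw [sign_ru] at this
  exact absurd this (by decide)

end CfsgLib.RuStd
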