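import Cfsg.Agent.Lib.RuStd.Classes
import Cfsg.Agent.Lib.Schur.StemTwoUnique

/-!
The involutions of the double cover of the Rudvalis group, and their transfer to every double cover.
-/

set_option autoImplicit false
set_option maxRecDepth 100000
set_option linter.style.haveILetI false

namespace CfsgLib.RuStd

open CfsgLib.CosetEnum CfsgLib.RuGroup Cfsg.Spor
open scoped commutatorElement

attribute [local irreducible] el keyW wordImg sameBase keyOf edge gImg

/-- what is needed of the elements with central square -/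
def InvolDichotomy (A : Type*) [Group A] : Prop :=
  (∀ u : A, u * u ∈ Subgroup.center A → u ∉ Subgroup.center A →
    (u * u = 1 ∧ (∃ x r : A, x ^ 4 = u ∧ r * u = u * r ∧ r * x * r⁻¹ * x ∈ Subgroup.center A) ∧
      ∃ s : A, s * u = u * s ∧ s * s ∈ Subgroup.center A ∧ s * s ≠ 1) ∨
    (u * u ≠ 1 ∧ ∀ a : A, a * a * u⁻¹ ∉ Subgroup.center A))

theorem InvolDichotomy.of_equiv {A B : Type*} [Group A] [Group B] (e : A ≃* B) (h : InvolDichotomy A) :
    InvolDichotomy B := by
  intro u h1 h2
  have hc : ∀ {a : A}, e a ∈ Subgroup.center B ↔ a ∈ Subgroup.center A := fun {a} => by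
    simp only [Subgroup.mem_center_iff]
    exact ⟨fun h g => e.injective (by rw [map_mul, map_mul]; exact h (e g)),
      fun h g => by rw [← e.apply_symm_apply g, ← map_mul, ← map_mul, h]⟩
  obtain ⟨v, rfl⟩ := e.surjective u
  rw [← map_mul, hc] at h1
  rw [hc] at h2
  rcases h v h1 h2 with ⟨hv, ⟨x, r, hx, hr, hxr⟩, s, hs, hs2, hs1⟩ | ⟨hv, hno⟩
  · refine Or.inl ⟨by rw [← map_mul, hv, map_one], ⟨e x, e r, by rw [← map_pow, hx],
      by rw [← map_mul, hr, map_mul], ?_⟩, e s, by rw [← map_mul, hs, map_mul],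
      by rw [← map_mul, hc]; exact hs2, ?_⟩
    · rw [← map_mul, ← map_inv, ← map_mul, ← map_mul, hc]; exact hxr
    · rw [← map_mul]
      exact fun h => hs1 (e.injective (h.trans (map_one e).symm))
  · refine Or.inr ⟨?_, fun b => ?_⟩
    · rw [← map_mul]
      exact fun h => hv (e.injective (h.trans (map_one e).symm))
    · obtain ⟨a, rfl⟩ := e.surjective b
      rw [← map_mul, ← map_inv, ← map_mul, hc]
      exact hno a

/-- the negation -/
noncomputable def neg : fourRu := genR 9 * genR 9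

theorem neg_center : neg ∈ Subgroup.center fourRu := mul_mem genR_nine_center genR_nine_center

theorem fw_nine : fw [9, 9] = neg := by simp [fw, neg]

theorem neg_mem : neg ∈ twoRu := by
  obtain ⟨a, b, hab⟩ := anti_pair
  rw [neg, ← hab]
  exact Subgroup.commutator_mem_commutator (Subgroup.mem_top a) (Subgroup.mem_top b)

theorem exists_two_mul (g : fourRu) : ∃ d ∈ twoRu, ∃ s ∈ Subgroup.center fourRu, g = d * s := by
  obtain ⟨d, hd⟩ := twoProj_surjective (QuotientGroup.mk' (Subgroup.center fourRu) g)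
  refine ⟨d, d.2, (d : fourRu)⁻¹ * g, ?_, (mul_inv_cancel_left _ _).symm⟩
  exact QuotientGroup.eq.1 hd

theorem scalar_pow_four {s : fourRu} (hs : s ∈ Subgroup.center fourRu) : s ^ 4 = 1 := by
  have h := pow_card_eq_one' (G := Subgroup.center fourRu) (x := ⟨s, hs⟩)
  rw [ru_order.1] at h
  exact congrArg Subtype.val h

theorem pow_four_mem (g : fourRu) : g ^ 4 ∈ twoRu := by
  obtain ⟨d, hd, s, hs, rfl⟩ := exists_two_mul g
  have hc : Commute d s := Subgroup.mem_center_iff.1 hs d
  rw [hc.mul_pow, scalar_pow_four hs, mul_one]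
  exact pow_mem hd 4

theorem fw_rep (g : ℕ) : ∀ n, fw (repWord [g] n) = genR g ^ n
  | 0 => by simp [fw, repWord]
  | n + 1 => by
    rw [show repWord [g] (n + 1) = [g] ++ repWord [g] n by simp [repWord, List.replicate_succ], fw_append,
      fw_rep g n, pow_succ']
    simp [fw]

theorem small4_mem {w : List ℕ} (h : small4 w = true) : fw w ∈ twoRu := by
  refine list_prod_mem fun x hx => ?_
  obtain ⟨g, hg, rfl⟩ := List.mem_map.1 hx
  simp only [small4, List.all_eq_true, decide_eq_true_eq] at h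
  have hg4 := h g hg
  have hl := lift_ok
  simp only [liftOK, Bool.and_eq_true, List.all_eq_true, List.mem_range] at hl
  have hpow : genR g ^ (29 * 13) = 1 := by
    have e := fw_eq (small_repWord (fun x hx => by simp at hx; omega) _) small_nil
      (hl.1.1.1.1.1.1.1.2 g hg4)
    rw [fw_nil, fw_rep] at e
    exact e
  have : genR g = ((genR g) ^ 4) ^ 283 := by
    rw [← pow_mul, show 4 * 283 = 29 * 13 * 3 + 1 by norm_num, pow_succ, pow_mul, hpow, one_pow, one_mul]
  rw [this]
  exact pow_mem (pow_four_mem _) _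

theorem center_twoRu (d : twoRu) : d ∈ Subgroup.center twoRu ↔ (d : fourRu) ∈ Subgroup.center fourRu := by
  refine ⟨fun h => Subgroup.mem_center_iff.2 fun g => ?_, fun h => ?_⟩
  · obtain ⟨e, he, s, hs, rfl⟩ := exists_two_mul g
    have h1 : e * (d : fourRu) = d * e := congrArg Subtype.val (Subgroup.mem_center_iff.1 h ⟨e, he⟩)
    rw [mul_assoc, ← Subgroup.mem_center_iff.1 hs (d : fourRu), ← mul_assoc, h1, mul_assoc]
  · exact Subgroup.mem_center_iff.2 fun y => Subtype.ext (Subgroup.mem_center_iff.1 h (y : fourRu))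

theorem card_ker_twoProj : Nat.card twoProj.ker = 2 := by
  refine ((Nat.dvd_prime Nat.prime_two).1 ?_).resolve_left fun e => ?_
  · have hk : (ruEquiv.toMonoidHom.comp twoProj).ker = twoProj.ker := MonoidHom.ker_mulEquiv_comp twoProj ruEquiv
    have h := bound_ru (σ := ruEquiv.toMonoidHom.comp twoProj)
      ⟨ruEquiv.surjective.comp twoProj_stem.1, hk ▸ twoProj_stem.2.1, hk ▸ twoProj_stem.2.2⟩
    rwa [hk] at h
  · have hker : (⟨_, neg_mem⟩ : twoRu) ∈ twoProj.ker :=
      MonoidHom.mem_ker.2 ((QuotientGroup.eq_one_iff _).2 neg_center)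
    rw [Subgroup.eq_bot_of_card_eq _ e, Subgroup.mem_bot] at hker
    exact nine_sq_ne (congrArg Subtype.val hker)

/-- the scalars in the double cover -/
theorem two_center_cases {x : fourRu} (h1 : x ∈ twoRu) (h2 : x ∈ Subgroup.center fourRu) : x = 1 ∨ x = neg := by
  classical
  haveI := Fintype.ofFinite twoProj.ker
  have hm : ∀ (y : fourRu) (hy : y ∈ twoRu), y ∈ Subgroup.center fourRu → (⟨y, hy⟩ : twoRu) ∈ twoProj.ker :=
    fun y hy hc => MonoidHom.mem_ker.2 ((QuotientGroup.eq_one_iff _).2 hc)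
  by_contra hne
  push Not at hne
  have hsub : ({1, ⟨_, hm x h1 h2⟩, ⟨_, hm neg neg_mem neg_center⟩} : Finset twoProj.ker).card = 3 := by
    rw [Finset.card_eq_three]
    refine ⟨1, _, _, ?_, ?_, ?_, rfl⟩
    · exact fun e => hne.1 (congrArg (fun a : twoProj.ker => ((a : twoRu) : fourRu)) e).symm
    · exact fun e => nine_sq_ne (congrArg (fun a : twoProj.ker => ((a : twoRu) : fourRu)) e).symm
    · exact fun e => hne.2 (congrArg (fun a : twoProj.ker => ((a : twoRu) : fourRu)) e)
  have := Finset.card_le_univ ({1, ⟨_, hm x h1 h2⟩, ⟨_, hm neg neg_mem neg_center⟩} : Finset twoProj.ker)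
  rw [hsub, ← Nat.card_eq_fintype_card, card_ker_twoProj] at this
  omega

theorem neg_sq : neg * neg = 1 := by
  rw [show neg * neg = genR 9 ^ 4 by simp [neg, pow_succ, mul_assoc]]
  exact scalar_pow_four genR_nine_center

theorem neg_ne : neg ≠ 1 := nine_sq_ne

/-- the elements of the first kind -/
def FirstKind (u : fourRu) : Prop :=
  u * u = 1 ∧ (∃ x ∈ twoRu, ∃ r ∈ twoRu, x ^ 4 = u ∧ r * u = u * r ∧ r * x * r⁻¹ * x ∈ Subgroup.center fourRu) ∧
    ∃ s ∈ twoRu, s * u = u * s ∧ s * s = neg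

theorem FirstKind.conj {u : fourRu} (h : FirstKind u) (f : fourRu) : FirstKind (f * u * f⁻¹) := by
  obtain ⟨hu, ⟨x, hx, r, hr, h4, hru, hxr⟩, s, hs, hsu, hss⟩ := h
  have hn : twoRu.Normal := inferInstance
  refine ⟨?_, ⟨f * x * f⁻¹, hn.conj_mem x hx f, f * r * f⁻¹, hn.conj_mem r hr f, ?_, ?_, ?_⟩, f * s * f⁻¹,
    hn.conj_mem s hs f, ?_, ?_⟩
  · rw [show f * u * f⁻¹ * (f * u * f⁻¹) = f * (u * u) * f⁻¹ by group, hu]; group
  · rw [conj_pow, h4]
  · calc f * r * f⁻¹ * (f * u * f⁻¹) = f * (r * u) * f⁻¹ := by group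
      _ = f * (u * r) * f⁻¹ := by rw [hru]
      _ = _ := by group
  · rw [show f * r * f⁻¹ * (f * x * f⁻¹) * (f * r * f⁻¹)⁻¹ * (f * x * f⁻¹) = f * (r * x * r⁻¹ * x) * f⁻¹ by group]
    exact (inferInstance : (Subgroup.center fourRu).Normal).conj_mem _ hxr f
  · calc f * s * f⁻¹ * (f * u * f⁻¹) = f * (s * u) * f⁻¹ := by group
      _ = f * (u * s) * f⁻¹ := by rw [hsu]
      _ = _ := by group
  · rw [show f * s * f⁻¹ * (f * s * f⁻¹) = f * (s * s) * f⁻¹ by group, hss,
      Subgroup.mem_center_iff.1 neg_center f, mul_inv_cancel_right]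

theorem root_witness {x r sg : List ℕ} (hx : small4 x = true) (hr : small4 r = true)
    (hsg : sg = [] ∨ sg = [9, 9]) (h1 : sameVec (x ++ r ++ x) (sg ++ r) = true)
    (h2 : sameVec (r ++ r) [] = true ∨ sameVec (r ++ r) [9, 9] = true) (h8 : fw (four x) * fw (four x) = 1) :
    ∃ x' ∈ twoRu, ∃ r' ∈ twoRu, x' ^ 4 = fw (four x) ∧ r' * fw (four x) = fw (four x) * r' ∧
      r' * x' * r'⁻¹ * x' ∈ Subgroup.center fourRu := by
  have sx := small_of_small4 hx
  have sr := small_of_small4 hr
  have h99 : Small [9, 9] := fun g hg => by simp at hg; omega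
  have hc : fw sg ∈ Subgroup.center fourRu := by
    rcases hsg with rfl | rfl
    · exact one_mem _
    · rw [fw_nine]; exact neg_center
  have hs : Small sg := by rcases hsg with rfl | rfl <;> [exact small_nil; exact h99]
  have e1 := fw_eq (small_append (small_append sx sr) sx) (small_append hs sr) h1
  simp only [fw_append] at e1
  have e2 : fw r * fw r ∈ Subgroup.center fourRu := by
    rcases h2 with h | h
    · rw [← fw_append, fw_eq (small_append sr sr) small_nil h]; exact one_mem _
    · rw [← fw_append, fw_eq (small_append sr sr) h99 h, fw_nine]; exact neg_center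
  have hX4 : fw x ^ 4 = fw (four x) := by
    rw [four, fw_append, fw_append, fw_append, pow_succ, pow_succ, pow_two]
  set X := fw x
  set R := fw r
  have hinv : R * X * R⁻¹ * X = fw sg := by
    have e3 : R * X * R⁻¹ = X⁻¹ * fw sg := by
      -- conjugate the relation by the central square
      have hR : ∀ y, R⁻¹ * y * R = R * y * R⁻¹ := fun y => by
        have h := Subgroup.mem_center_iff.1 e2 y
        calc R⁻¹ * y * R = R⁻¹ * (y * (R * R)) * R⁻¹ := by group
          _ = R⁻¹ * ((R * R) * y) * R⁻¹ := by rw [h]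
          _ = _ := by group
      have e4 : R * X * R⁻¹ = R⁻¹ * X * R := (hR X).symm
      have e5 : R⁻¹ * (X * R * X) = R⁻¹ * (fw sg * R) := by rw [e1]
      have e6 : R⁻¹ * X * R * X = fw sg := by
        rw [show R⁻¹ * X * R * X = R⁻¹ * (X * R * X) by group, e5, ← Subgroup.mem_center_iff.1 hc R,
          inv_mul_cancel_left]
      rw [e4, Subgroup.mem_center_iff.1 hc X⁻¹, ← e6]
      group
    rw [e3, mul_assoc, ← Subgroup.mem_center_iff.1 hc X, inv_mul_cancel_left]
  refine ⟨X, small4_mem hx, R, small4_mem hr, hX4, ?_, hinv ▸ hc⟩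
  have e7 : R * X * R⁻¹ = fw sg * X⁻¹ := eq_mul_inv_of_mul_eq hinv
  have hcomm : Commute (fw sg) X⁻¹ := (Subgroup.mem_center_iff.1 hc X⁻¹).symm
  have e8 : R * X ^ 4 * R⁻¹ = X⁻¹ ^ 4 := by
    rw [← conj_pow, e7, hcomm.mul_pow, scalar_pow_four hc, one_mul]
  rw [inv_pow, hX4, inv_eq_of_mul_eq_one_right h8] at e8
  exact mul_inv_eq_iff_eq_mul.1 e8

theorem first_reps : FirstKind (fw (four xA)) ∧ FirstKind (neg * fw (four xA)) := by
  obtain ⟨hxa, hra, hxc, hrc, -, hcac⟩ := lift_small
  have hl := lift_ok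
  simp only [liftOK, Bool.and_eq_true, Bool.or_eq_true, beq_iff_eq] at hl
  obtain ⟨⟨⟨⟨⟨⟨⟨⟨⟨⟨⟨-, -⟩, hsA⟩, hsC⟩, -⟩, h8⟩, hA⟩, hA2⟩, hC⟩, hC2⟩, hAC⟩, -⟩ := hl
  have h99 : Small [9, 9] := fun g hg => by simp at hg; omega
  have s4 : ∀ {w}, small4 w = true → Small (four w) := fun h =>
    small_append (small_append (small_append (small_of_small4 h) (small_of_small4 h)) (small_of_small4 h))
      (small_of_small4 h)
  have hA8 : fw (four xA) * fw (four xA) = 1 := by
    rw [← fw_append, fw_eq (small_append (s4 hxa) (s4 hxa)) small_nil h8, fw_nil]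
  have hq := sqrt_ok
  simp only [sqrtOK, Bool.and_eq_true] at hq
  obtain ⟨⟨hs4, hss⟩, hsc⟩ := hq
  have hS2 : fw sV * fw sV = neg := by
    rw [← fw_append, fw_eq (small_append (small_of_small4 hs4) (small_of_small4 hs4)) h99 hss, fw_nine]
  have hSc : fw sV * fw (four xA) = fw (four xA) * fw sV := by
    rw [← fw_append, fw_eq (small_append (small_of_small4 hs4) (s4 hxa))
      (small_append (s4 hxa) (small_of_small4 hs4)) hsc, fw_append]
  have hn : ∀ y, y * neg = neg * y := fun y => Subgroup.mem_center_iff.1 neg_center y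
  refine ⟨⟨hA8, root_witness hxa hra hsA hA hA2 hA8, _, small4_mem hs4, hSc, hS2⟩, ?_⟩
  have hz8 : neg * fw (four xA) * (neg * fw (four xA)) = 1 := by
    rw [mul_assoc, ← mul_assoc (fw (four xA)), hn, mul_assoc neg, ← mul_assoc, neg_sq, one_mul, hA8]
  set c := fw cAC with hc
  have hconj : c * fw (four xC) = neg * fw (four xA) * c := by
    rw [hc, ← fw_append, fw_eq (small_append (small_of hcac) (s4 hxc))
      (small_append (small_append h99 (s4 hxa)) (small_of hcac)) hAC, fw_append, fw_append, fw_nine]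
  have hC8 : fw (four xC) * fw (four xC) = 1 := by
    have : fw (four xC) = c⁻¹ * (neg * fw (four xA)) * c := by rw [mul_assoc, ← hconj, inv_mul_cancel_left]
    rw [this, show c⁻¹ * (neg * fw (four xA)) * c * (c⁻¹ * (neg * fw (four xA)) * c) =
      c⁻¹ * (neg * fw (four xA) * (neg * fw (four xA))) * c by group, hz8]
    group
  have hsU : fw sV * (neg * fw (four xA)) = neg * fw (four xA) * fw sV := by
    rw [← mul_assoc, hn, mul_assoc, hSc, mul_assoc]
  -- move the witnesses for the other lift along the conjugator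
  have heq : c * fw (four xC) * c⁻¹ = neg * fw (four xA) := by rw [hconj, mul_inv_cancel_right]
  obtain ⟨x, hx, r, hr, h4, hru, hxr⟩ := root_witness hxc hrc hsC hC hC2 hC8
  have htwo : twoRu.Normal := inferInstance
  refine ⟨hz8, ⟨c * x * c⁻¹, htwo.conj_mem x hx c, c * r * c⁻¹, htwo.conj_mem r hr c, ?_, ?_, ?_⟩, _,
    small4_mem hs4, hsU, hS2⟩
  · rw [conj_pow, h4, heq]
  · rw [← heq]
    calc c * r * c⁻¹ * (c * fw (four xC) * c⁻¹) = c * (r * fw (four xC)) * c⁻¹ := by group
      _ = c * (fw (four xC) * r) * c⁻¹ := by rw [hru]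
      _ = _ := by group
  · rw [show c * r * c⁻¹ * (c * x * c⁻¹) * (c * r * c⁻¹)⁻¹ * (c * x * c⁻¹) = c * (r * x * r⁻¹ * x) * c⁻¹ by group]
    exact (inferInstance : (Subgroup.center fourRu).Normal).conj_mem _ hxr c

/-- the image on the lines -/
noncomputable def pr : fourRu →* RuP := lineAct.rangeRestrict

theorem pr_fw (w : List ℕ) : pr (fw w) = el w := Subtype.ext (lineAct_fw w)

theorem pr_eq_one {f : fourRu} : pr f = 1 ↔ f ∈ Subgroup.center fourRu := by
  rw [center_eq, MonoidHom.mem_ker]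
  exact Subtype.ext_iff

theorem dichotomy_twoRu : InvolDichotomy twoRu := by
  intro u hsq hnc
  rw [center_twoRu] at hsq hnc
  have hg2 : pr (u : fourRu) * pr (u : fourRu) = 1 := by
    rw [← map_mul, pr_eq_one]
    exact hsq
  have hg1 : pr (u : fourRu) ≠ 1 := fun e => hnc (pr_eq_one.1 e)
  have hlift : ∀ w : List ℕ, fw w ∈ twoRu → IsConj (pr (u : fourRu)) (el w) →
      ∃ f : fourRu, f * (u : fourRu) * f⁻¹ = fw w ∨ f * (u : fourRu) * f⁻¹ = neg * fw w := by
    intro w hw h
    obtain ⟨c, hc⟩ := isConj_iff.1 h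
    obtain ⟨f, rfl⟩ : ∃ f, pr f = c := lineAct.rangeRestrict_surjective c
    refine ⟨f, ?_⟩
    have hm : f * (u : fourRu) * f⁻¹ ∈ twoRu := (inferInstance : twoRu.Normal).conj_mem _ u.2 f
    have hker : f * (u : fourRu) * f⁻¹ * (fw w)⁻¹ ∈ Subgroup.center fourRu := by
      rw [← pr_eq_one, map_mul, map_mul, map_mul, map_inv, map_inv, pr_fw, hc, mul_inv_cancel]
    rcases two_center_cases (mul_mem hm (inv_mem hw)) hker with e | e
    · exact Or.inl (mul_inv_eq_one.1 e)
    · exact Or.inr (mul_inv_eq_iff_eq_mul.1 e)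
  rcases known_of_invol hg2 hg1 with h | h
  · left
    obtain ⟨f, hf⟩ := hlift (four xA) (by
      obtain ⟨hxa, -⟩ := lift_small
      rw [four, fw_append, fw_append, fw_append]
      exact mul_mem (mul_mem (mul_mem (small4_mem hxa) (small4_mem hxa)) (small4_mem hxa)) (small4_mem hxa)) h
    have hF : FirstKind (u : fourRu) := by
      have e : (u : fourRu) = f⁻¹ * (f * (u : fourRu) * f⁻¹) * f⁻¹⁻¹ := by group
      rcases hf with hf | hf <;> rw [e, hf]
      exacts [first_reps.1.conj _, first_reps.2.conj _]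
    obtain ⟨hu, ⟨x, hx, r, hr, h4, hru, hxr⟩, s, hs, hsu, hss⟩ := hF
    refine ⟨Subtype.ext hu, ⟨⟨x, hx⟩, ⟨r, hr⟩, Subtype.ext h4, Subtype.ext hru, ?_⟩, ⟨s, hs⟩,
      Subtype.ext hsu, ?_, fun e => neg_ne (hss.symm.trans (congrArg Subtype.val e))⟩
    · rw [center_twoRu]; exact hxr
    · rw [center_twoRu]
      show s * s ∈ _
      rw [hss]; exact neg_center
  · right
    refine ⟨fun e => ?_, fun a ha => ?_⟩
    · obtain ⟨hl1, hl2, hl3, hl4, hwB, -⟩ := lift_small
      obtain ⟨f, hf⟩ := hlift wB (small4_mem hwB) h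
      have hB : fw wB * fw wB = neg := by
        have hl := lift_ok
        simp only [liftOK, Bool.and_eq_true] at hl
        have hs := small_of_small4 hwB
        rw [← fw_append, fw_eq (small_append hs hs) (fun g hg => by simp at hg; omega) hl.2, fw_nine]
      have hu : (u : fourRu) * u = 1 := congrArg Subtype.val e
      have h1 : f * (u : fourRu) * f⁻¹ * (f * (u : fourRu) * f⁻¹) = 1 := by
        rw [show f * (u : fourRu) * f⁻¹ * (f * (u : fourRu) * f⁻¹) = f * ((u : fourRu) * u) * f⁻¹ by group, hu]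
        group
      rcases hf with hf | hf <;> rw [hf] at h1
      · exact neg_ne (hB.symm.trans h1)
      · rw [mul_assoc, ← mul_assoc (fw wB), Subgroup.mem_center_iff.1 neg_center (fw wB), mul_assoc neg,
          ← mul_assoc, neg_sq, one_mul] at h1
        exact neg_ne (hB.symm.trans h1)
    · rw [center_twoRu, ← pr_eq_one] at ha
      simp only [Subgroup.coe_mul, Subgroup.coe_inv, map_mul, map_inv] at ha
      exact not_square h _ (mul_inv_eq_one.1 ha)

theorem ru_perfect : commutator Ru = ⊤ := by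
  haveI := ru_simple
  refine ((commutator_def Ru ▸ inferInstance : (commutator Ru).Normal).eq_bot_or_eq_top).resolve_left fun h => ?_
  obtain ⟨a, b, hab⟩ := ru_not_comm
  refine hab ?_
  have hm : ⁅a, b⁆ ∈ commutator Ru :=
    Subgroup.commutator_mem_commutator (Subgroup.mem_top a) (Subgroup.mem_top b)
  rw [h, Subgroup.mem_bot] at hm
  exact commutatorElement_eq_one_iff_mul_comm.mp hm

universe v

/-- every perfect double cover has the dichotomy -/
theorem dichotomy_of_cover {A : Type v} [Group A] [Finite A] (hperf : commutator A = ⊤)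
    (hZ : Nat.card (Subgroup.center A) = 2) (hX : Nonempty ((A ⧸ Subgroup.center A) ≃* Ru)) :
    InvolDichotomy A := by
  obtain ⟨i⟩ := hX
  let τ : A →* Ru := i.toMonoidHom.comp (QuotientGroup.mk' (Subgroup.center A))
  have hker : τ.ker = Subgroup.center A := by
    rw [show τ.ker = (QuotientGroup.mk' (Subgroup.center A)).ker from MonoidHom.ker_mulEquiv_comp _ i,
      QuotientGroup.ker_mk']
  have hτ : Cfsg.IsStemExtension τ :=
    ⟨i.surjective.comp (QuotientGroup.mk'_surjective _), hker.le, by rw [hperf]; exact le_top⟩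
  have h2' : Nat.card τ.ker = 2 := by rw [hker, hZ]
  obtain ⟨θ, hθ⟩ := CfsgLib.Schur.StemTwoUnique.exists_hom ru_perfect multiplier_ru twoProj_stem card_ker_twoProj hτ h2'
  have hsur : θ.range = ⊤ := by
    refine eq_top_iff.2 ?_
    rw [← hperf, commutator_def, Subgroup.commutator_le]
    intro a _ b _
    have hdec : ∀ a : A, ∃ d, ∃ k ∈ Subgroup.center A, a = θ d * k := fun a => by
      obtain ⟨d, hd⟩ := twoProj_surjective (τ a)
      refine ⟨d, (θ d)⁻¹ * a, hker ▸ ?_, (mul_inv_cancel_left _ _).symm⟩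
      rw [MonoidHom.mem_ker, map_mul, map_inv, show τ (θ d) = twoProj d from DFunLike.congr_fun hθ d, hd,
        inv_mul_cancel]
    obtain ⟨d, k, hk, rfl⟩ := hdec a
    obtain ⟨d', k', hk', rfl⟩ := hdec b
    rw [CfsgLib.Schur.commutatorElement_congr (QuotientGroup.mk' (Subgroup.center A))
      (by rw [QuotientGroup.ker_mk'])
      (a' := θ d) (b' := θ d')
      (by rw [map_mul, show QuotientGroup.mk' _ k = 1 from (QuotientGroup.eq_one_iff _).2 hk, mul_one])
      (by rw [map_mul, show QuotientGroup.mk' _ k' = 1 from (QuotientGroup.eq_one_iff _).2 hk', mul_one]),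
      ← map_commutatorElement]
    exact ⟨_, rfl⟩
  have hs : Function.Surjective θ := MonoidHom.range_eq_top.1 hsur
  have hcardA : Nat.card twoRu = Nat.card A := by
    rw [Subgroup.card_eq_card_quotient_mul_card_subgroup twoProj.ker,
      Subgroup.card_eq_card_quotient_mul_card_subgroup τ.ker, card_ker_twoProj, h2',
      Nat.card_congr (QuotientGroup.quotientKerEquivOfSurjective twoProj twoProj_surjective).toEquiv,
      Nat.card_congr (QuotientGroup.quotientKerEquivOfSurjective τ hτ.1).toEquiv]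
  exact dichotomy_twoRu.of_equiv
    (MulEquiv.ofBijective θ ((Nat.bijective_iff_surjective_and_card θ).2 ⟨hs, hcardA⟩))

end CfsgLib.RuStd
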