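import Cfsg.Agent.Lib.RuGroup.MultDefs
import Cfsg.Agent.Lib.RuGroup.CheckCover
import Cfsg.Agent.Lib.RuStd.Data
import Cfsg.Agent.Lib.RuStd.Words

/-!
Executable checks on the tables of the Sylow subgroup and on the two lifts.
-/

set_option autoImplicit false
set_option maxRecDepth 20000

namespace CfsgLib.RuStd

open CfsgLib.CosetEnum CfsgLib.RuGroup

/-- the base images of an element -/
noncomputable def keyOf (x : ℕ) : ℕ := kTab.at' (nat_lit 48) x

/-- left multiplication -/
noncomputable def edge (j x : ℕ) : ℕ :=
  eTab.at' (nat_lit 14) (Nat.add (Nat.mul (nat_lit 16384) j) x)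

/-- a generator on a line -/
noncomputable def gImg (j p : ℕ) : ℕ := gTab.at' (nat_lit 12) (Nat.add (Nat.mul (nat_lit 4096) j) p)

/-- the word of an element, with fuel -/
noncomputable def wAux : ℕ → ℕ → List ℕ :=
  Nat.rec (fun _ => [])
    (fun _ ih x => pick (Nat.beq x (nat_lit 0)) []
      (strict (pTab.at' (nat_lit 17) x) fun e =>
        Nat.mod e (nat_lit 8) :: ih (Nat.div e (nat_lit 8))))

/-- the word of an element -/
noncomputable def wOf (x : ℕ) : List ℕ := wAux (nat_lit 11) x

/-- left multiplication by a word -/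
noncomputable def walk (w : List ℕ) (x : ℕ) : ℕ := List.rec x (fun j _ ih => edge j ih) w

/-- one component of a key moved by a generator -/
noncomputable def moveOne (j key key' i : ℕ) : Bool :=
  band (ltB (keyComp key i) (nat_lit 4060)) (Nat.beq (keyComp key' i) (gImg j (keyComp key i)))

/-- all components of a key moved by a generator -/
noncomputable def moveKey (j k k' : ℕ) : Bool :=
  band (band (moveOne j k k' (nat_lit 0)) (moveOne j k k' (nat_lit 1)))
    (band (moveOne j k k' (nat_lit 2)) (moveOne j k k' (nat_lit 3)))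

/-- the edge of a letter at an element -/
noncomputable def edgeOK (j x : ℕ) : Bool :=
  strict (keyOf x) fun k => strict (edge j x) fun y =>
    band (ltB y (nat_lit 16384)) (strict (keyOf y) fun k' => moveKey j k k')

/-- the checks of one element -/
noncomputable def elemOK (x : ℕ) : Bool :=
  band (band (band (edgeOK (nat_lit 0) x) (edgeOK (nat_lit 1) x))
      (band (edgeOK (nat_lit 2) x) (band (edgeOK (nat_lit 3) x) (edgeOK (nat_lit 4) x))))
    (band (band ((wOf x).all fun j => ltB j (nat_lit 5)) (Nat.beq (walk (wOf x) (nat_lit 0)) x))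
      (strict (oTab.at' (nat_lit 14) x) fun r =>
        band (ltB r (nat_lit 16384))
          (pick (Nat.beq x (nat_lit 16383)) true
            (ltB (keyOf r) (keyOf (oTab.at' (nat_lit 14) (Nat.succ x)))))))

/-- a generator on a line agrees with its word -/
noncomputable def genImgOK (j p : ℕ) : Bool :=
  pick (ltB p (nat_lit 4060)) (Nat.beq (gImg j p) (wordImg (mGens.getD j []) p)) true

/-- the five generators on a line -/
noncomputable def genLineOK (p : ℕ) : Bool :=
  band (band (genImgOK (nat_lit 0) p) (genImgOK (nat_lit 1) p))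
    (band (genImgOK (nat_lit 2) p) (band (genImgOK (nat_lit 3) p) (genImgOK (nat_lit 4) p)))

/-- an involution is in the mask -/
noncomputable def invCov (x : ℕ) : Bool :=
  pick (Nat.beq x (nat_lit 0)) true
    (pick (Nat.beq (walk (wOf x) x) (nat_lit 0))
      (Nat.beq (Nat.mod (Nat.shiftRight iMask x) (nat_lit 2)) (nat_lit 1)) true)

/-- the conjugate by a generator -/
noncomputable def conjI (j y : ℕ) : ℕ := edge j (walk (wOf y) (edge j (nat_lit 0)))

/-- a growing mask of classified involutions -/
noncomputable def grow (es : List (ℕ × ℕ)) (acc : ℕ) : ℕ :=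
  List.rec (motive := fun _ => ℕ → ℕ) (fun a => a)
    (fun e _ ih a =>
      pick (band (band (ltB e.1 (nat_lit 16384)) (ltB e.2 (nat_lit 5)))
          (Nat.beq (Nat.mod (Nat.shiftRight a e.1) (nat_lit 2)) (nat_lit 1)))
        (strict (Nat.lor a (Nat.pow (nat_lit 2) (conjI e.2 e.1))) fun a' => ih a') (nat_lit 0)) es acc

/-- the mask of the roots -/
def rootMask : ℕ := iRoots.foldr (fun e a => a ||| 2 ^ e.1) 0

/-- a fourth power of a word -/
def four (x : List ℕ) : List ℕ := x ++ x ++ x ++ x

/-- the two classes -/
def clsW (c : ℕ) : List ℕ := if c = 0 then four xA else wB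

/-- the letters are allowed -/
def small4 (w : List ℕ) : Bool := w.all fun g => g < 4

/-- a root is conjugate to its class -/
noncomputable def rootOK (e : ℕ × ℕ × List ℕ) : Bool :=
  decide (e.1 < 16384) && decide (e.2.1 < 2) && small10 e.2.2 && small10 (mExp (wOf e.1)) &&
    sameBase (e.2.2 ++ mExp (wOf e.1)) (clsW e.2.1 ++ e.2.2)

/-- two words agree on the vector base -/
noncomputable def sameVec (u w : List ℕ) : Bool := vBase.all fun k => Nat.beq (imgW u k) (imgW w k)

/-- the relations in the double cover -/
noncomputable def liftOK : Bool :=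
  [xA, rA, xC, rC, wB].all small4 && small10 cAC && (sA == [] || sA == [9, 9]) && (sC == [] || sC == [9, 9]) &&
    (List.range 4).all (fun g => sameVec (repWord [g] (29 * 13)) []) &&
    sameVec (four xA ++ four xA) [] &&
    sameVec (xA ++ rA ++ xA) (sA ++ rA) && (sameVec (rA ++ rA) [] || sameVec (rA ++ rA) [9, 9]) &&
    sameVec (xC ++ rC ++ xC) (sC ++ rC) && (sameVec (rC ++ rC) [] || sameVec (rC ++ rC) [9, 9]) &&
    sameVec (cAC ++ four xC) ([9, 9] ++ four xA ++ cAC) && sameVec (wB ++ wB) [9, 9]

/-- the square root of the negation -/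
noncomputable def sqrtOK : Bool :=
  small4 sV && sameVec (sV ++ sV) [9, 9] && sameVec (sV ++ four xA) (four xA ++ sV)

/-- the second class fixes no line -/
noncomputable def freeAt (p : ℕ) : Bool :=
  pick (ltB p (nat_lit 4060)) (pick (Nat.beq (wordImg wB p) p) false true) true

end CfsgLib.RuStd
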