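import Cfsg.Agent.Lib.RuStd.Cover
import Cfsg.Agent.Lib.ZStar.Main
import Cfsg.Agent.Lib.RuGroup.Out
import Cfsg.Prelude.Def_Local

/-!
A standard subgroup isomorphic to the double cover of the Rudvalis group with cyclic Sylow 2-subgroups
in its centralizer is normal: its central involution is isolated.
-/

set_option autoImplicit false
set_option maxRecDepth 100000
set_option linter.style.haveILetI false
set_option linter.unusedSectionVars false

namespace CfsgLib.RuStd

open Cfsg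

variable {G : Type*} [Group G] [Finite G]

/-- the commutator subgroup of a group with a normal 2-complement and cyclic Sylow 2-subgroup is odd -/
theorem exists_odd_normal {K : Type*} [Group K] [Finite K] (P : Sylow 2 K) (hP : IsCyclic ↥(P : Subgroup K)) :
    ∃ N : Subgroup K, N.Normal ∧ Odd (Nat.card N) ∧ ∀ a b : K, a * b * a⁻¹ * b⁻¹ ∈ N := by
  haveI : Fact (Nat.Prime 2) := ⟨Nat.prime_two⟩
  obtain ⟨Q, N, hN, hc⟩ := ZStar.hasNormalPComplement_of_cyclic P hP
  haveI := hN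
  haveI : IsCyclic ↥(Q : Subgroup K) := isCyclic_of_surjective (Sylow.equiv P Q) (Sylow.equiv P Q).surjective
  refine ⟨N, hN, ?_, fun a b => ?_⟩
  · rw [← Nat.not_even_iff_odd]
    intro hev
    have hidx := hc.index_eq_card
    have h := Q.not_dvd_index
    rw [hidx] at h
    exact h hev.two_dvd
  · have hq : ∀ a : K, ∃ p : ↥(Q : Subgroup K), QuotientGroup.mk' N (p : K) = QuotientGroup.mk' N a := by
      intro a
      obtain ⟨⟨⟨n, hn⟩, p⟩, h⟩ := hc.2 a
      refine ⟨p, ?_⟩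
      simp only at h
      rw [← h, map_mul, show QuotientGroup.mk' N n = 1 from (QuotientGroup.eq_one_iff _).2 hn, one_mul]
    obtain ⟨p, hp⟩ := hq a
    obtain ⟨q, hq'⟩ := hq b
    refine (QuotientGroup.eq_one_iff _).1 ?_
    show QuotientGroup.mk' N (a * b * a⁻¹ * b⁻¹) = 1
    rw [map_mul, map_mul, map_mul, map_inv, map_inv, ← hp, ← hq', ← map_mul, ← map_inv, ← map_inv, ← map_mul,
      ← map_mul]
    have : (p : K) * q = q * p := congrArg Subtype.val
      ((IsCyclic.commGroup (α := ↥(Q : Subgroup K))).mul_comm p q)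
    rw [this, mul_inv_cancel_right, mul_inv_cancel, map_one]


/-- an element normalizing a perfect group with inner automorphisms only is a product -/
theorem exists_decomp {L : Subgroup G} (hqs : Cfsg.IsQuasisimple L)
    (hout : Nat.card (Cfsg.Out (↥L ⧸ Subgroup.center ↥L)) = 1) {g : G}
    (hn : g ∈ Subgroup.normalizer (L : Set G)) :
    ∃ k ∈ Subgroup.centralizer (L : Set G), ∃ a : ↥L, g = k * (a : G) := by
  let φ : MulAut ↥L :=
    { toFun := fun x => ⟨g * x * g⁻¹, (Subgroup.mem_normalizer_iff.1 hn x).1 x.2⟩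
      invFun := fun x => ⟨g⁻¹ * x * g, (Subgroup.mem_normalizer_iff''.1 hn x).1 x.2⟩
      left_inv := fun x => Subtype.ext (by simp [mul_assoc])
      right_inv := fun x => Subtype.ext (by simp [mul_assoc])
      map_mul' := fun x y => Subtype.ext (by simp [mul_assoc]) }
  have hψc : (Subgroup.center ↥L).map φ.toMonoidHom = Subgroup.center ↥L :=
    Subgroup.characteristic_iff_map_eq.1 inferInstance φ
  let ψq : MulAut (↥L ⧸ Subgroup.center ↥L) := QuotientGroup.congr _ _ φ hψc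
  have hall : ψq ∈ Cfsg.Inn (↥L ⧸ Subgroup.center ↥L) := by
    have hs : Subsingleton (Cfsg.Out (↥L ⧸ Subgroup.center ↥L)) := (Nat.card_eq_one_iff_unique.1 hout).1
    exact (QuotientGroup.eq_one_iff _).1 (Subsingleton.elim _ _)
  obtain ⟨b, hb⟩ := MonoidHom.mem_range.1 hall
  obtain ⟨a, rfl⟩ := QuotientGroup.mk'_surjective _ b
  let π := QuotientGroup.mk' (Subgroup.center ↥L)
  have hφa : ∀ x, φ x * (a * x * a⁻¹)⁻¹ ∈ Subgroup.center ↥L := by
    intro x
    refine (QuotientGroup.eq_one_iff _).1 ?_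
    show π (φ x * (a * x * a⁻¹)⁻¹) = 1
    rw [map_mul, map_inv, mul_inv_eq_one, map_mul, map_mul, map_inv]
    have h1 : ψq (π x) = π (φ x) := rfl
    rw [← h1, ← hb]
    rfl
  let f : ↥L →* ↥(Subgroup.center ↥L) := MonoidHom.mk' (fun x => ⟨_, hφa x⟩) fun x y => Subtype.ext (by
    show φ (x * y) * (a * (x * y) * a⁻¹)⁻¹ = _ * _
    have hc := Subgroup.mem_center_iff.1 (hφa y) (a * x * a⁻¹)⁻¹
    rw [mul_assoc (φ x), hc, map_mul]
    group)
  have hf : ∀ x, f x = 1 := by
    intro x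
    haveI := hqs.1
    have hle : commutator ↥L ≤ f.ker := by
      rw [commutator_def, Subgroup.commutator_le]
      intro p _ q _
      rw [MonoidHom.mem_ker, map_commutatorElement, commutatorElement_eq_one_iff_mul_comm]
      exact Subtype.ext (Subgroup.mem_center_iff.1 (f q).2 (f p).1)
    rw [Group.IsPerfect.commutator_eq_top] at hle
    exact MonoidHom.mem_ker.1 (hle (Subgroup.mem_top x))
  refine ⟨g * (a : G)⁻¹, ?_, a, by rw [inv_mul_cancel_right]⟩
  rw [Subgroup.mem_centralizer_iff]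
  intro y hy
  have h1 : ∀ x : ↥L, g * (x : G) * g⁻¹ = (a : G) * x * (a : G)⁻¹ := fun x => by
    have := congrArg Subtype.val (mul_inv_eq_one.1 (congrArg Subtype.val (hf x)))
    simpa [φ] using this
  have h3 := h1 (a⁻¹ * ⟨y, hy⟩ * a)
  simp only [Subgroup.coe_mul, Subgroup.coe_inv] at h3
  calc y * (g * (a : G)⁻¹)
      = ((a : G) * ((a : G)⁻¹ * y * a) * (a : G)⁻¹) * g * (a : G)⁻¹ := by group
    _ = (g * ((a : G)⁻¹ * y * a) * g⁻¹) * g * (a : G)⁻¹ := by rw [h3]
    _ = _ := by group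

/-- **Normality.** -/
theorem normal_of_cyclic {L : Subgroup G} (hO : Cfsg.oddCore G = ⊥) (hA : Cfsg.IsStandardSubgroup L)
    (hZ : Nat.card ↥(Subgroup.center ↥L) = 2) (hX : Cfsg.Spor.IsoRu (↥L ⧸ Subgroup.center ↥L))
    (hR : ∀ R : Sylow 2 ↥(Subgroup.centralizer (L : Set G)),
      IsCyclic ↥(R : Subgroup ↥(Subgroup.centralizer (L : Set G)))) : L.Normal := by
  classical
  haveI : Fact (Nat.Prime 2) := ⟨Nat.prime_two⟩
  obtain ⟨hqs, ⟨hKev, hKti⟩, -, hnorm⟩ := hA
  haveI := hqs.1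
  have hdich := dichotomy_of_cover (A := ↥L) Group.IsPerfect.commutator_eq_top hZ hX
  have hout : Nat.card (Cfsg.Out (↥L ⧸ Subgroup.center ↥L)) = 1 := by
    obtain ⟨i⟩ := hX
    exact CfsgLib.RuGroup.card_out_eq_one (i.trans CfsgLib.RuGroup.ruEquiv) CfsgLib.RuGroup.all_inner
  set K := Subgroup.centralizer (L : Set G) with hK
  obtain ⟨z0, hz0⟩ : ∃ z0 : ↥(Subgroup.center ↥L), orderOf z0 = 2 :=
    exists_prime_orderOf_dvd_card' 2 (by rw [hZ])
  set zL : ↥L := z0.1 with hzLdef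
  set z : G := (zL : G) with hzdef
  have hz2 : orderOf z = 2 := by rw [hzdef, Subgroup.orderOf_coe, hzLdef, Subgroup.orderOf_coe, hz0]
  have hz1 : z ≠ 1 := fun h => by rw [h, orderOf_one] at hz2; omega
  have hzsq : z * z = 1 := by
    have := pow_orderOf_eq_one z
    rwa [hz2, pow_two] at this
  have hzL : z ∈ L := zL.2
  have hcen : ∀ c : ↥L, c ∈ Subgroup.center ↥L ↔ (c : G) ∈ K := fun c => by
    rw [hK, Subgroup.mem_center_iff, Subgroup.mem_centralizer_iff]
    exact ⟨fun h x hx => congrArg Subtype.val (h ⟨x, hx⟩), fun h x => Subtype.ext (h x x.2)⟩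
  have hzK : z ∈ K := (hcen zL).1 z0.2
  have hcz2 : ∀ c ∈ Subgroup.center ↥L, (c : G) = 1 ∨ (c : G) = z := by
    intro c hc
    haveI := Fintype.ofFinite ↥(Subgroup.center ↥L)
    by_contra hne
    push Not at hne
    have h3 : ({1, ⟨c, hc⟩, z0} : Finset ↥(Subgroup.center ↥L)).card = 3 := by
      rw [Finset.card_eq_three]
      refine ⟨1, _, _, ?_, ?_, ?_, rfl⟩
      · exact fun e => hne.1 (congrArg (fun a : ↥(Subgroup.center ↥L) => ((a : ↥L) : G)) e).symm
      · exact fun e => hz1 (congrArg (fun a : ↥(Subgroup.center ↥L) => ((a : ↥L) : G)) e).symm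
      · exact fun e => hne.2 (congrArg (fun a : ↥(Subgroup.center ↥L) => ((a : ↥L) : G)) e)
    have := Finset.card_le_univ ({1, ⟨c, hc⟩, z0} : Finset ↥(Subgroup.center ↥L))
    rw [h3, ← Nat.card_eq_fintype_card, hZ] at this
    omega
  have hKcomm : ∀ k ∈ K, ∀ a ∈ L, a * k = k * a := fun k hk a ha =>
    Subgroup.mem_centralizer_iff.1 hk a ha
  have hzuniq : ∀ x ∈ K, x * x = 1 → x ≠ 1 → x = z := by
    intro x hx hxx hx1
    have hcm : x * z = z * x := (hKcomm x hx z hzL).symm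
    obtain ⟨V, hVdef⟩ : ∃ V : Subgroup ↥K, V = Subgroup.closure {(⟨x, hx⟩ : ↥K), ⟨z, hzK⟩} := ⟨_, rfl⟩
    have hV : ∀ v ∈ V, v * v = 1 ∧ (v : G) * x = x * v ∧ (v : G) * z = z * v := by
      intro v hv
      rw [hVdef] at hv
      refine Subgroup.closure_induction (G := ↥K)
        (p := fun (v : ↥K) _ => v * v = 1 ∧ (v : G) * x = x * v ∧ (v : G) * z = z * v)
        ?_ ⟨one_mul 1, by simp, by simp⟩ ?_ ?_ hv
      · rintro v (rfl | rfl)
        · exact ⟨Subtype.ext hxx, rfl, hcm⟩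
        · exact ⟨Subtype.ext hzsq, hcm.symm, rfl⟩
      · rintro a b ha hb ⟨a1, a2, a3⟩ ⟨b1, b2, b3⟩
        have hab : a * b = b * a := by
          refine Subgroup.closure_induction (p := fun b _ => a * b = b * a) ?_ (by simp) ?_ ?_ hb
          · rintro v (rfl | rfl)
            exacts [Subtype.ext a2, Subtype.ext a3]
          · intro p q _ _ hp hq; rw [← mul_assoc, hp, mul_assoc, hq, mul_assoc]
          · intro p _ hp; exact (Commute.inv_right hp)
        refine ⟨by rw [mul_assoc, ← mul_assoc b, ← hab, mul_assoc a b b, b1, mul_one, a1], ?_, ?_⟩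
        · rw [Subgroup.coe_mul, mul_assoc, b2, ← mul_assoc, a2, mul_assoc]
        · rw [Subgroup.coe_mul, mul_assoc, b3, ← mul_assoc, a3, mul_assoc]
      · rintro a - ⟨a1, a2, a3⟩
        rw [inv_eq_of_mul_eq_one_right a1]
        exact ⟨a1, a2, a3⟩
    have hVp : IsPGroup 2 V := fun v => ⟨1, Subtype.ext (by
      rw [pow_one, pow_two, Subgroup.coe_mul, (hV v.1 v.2).1]; rfl)⟩
    obtain ⟨R, hR'⟩ := hVp.exists_le_sylow
    haveI := hR R
    haveI := Fintype.ofFinite ↥(R : Subgroup ↥K)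
    by_contra hne
    have hxR : (⟨x, hx⟩ : ↥K) ∈ (R : Subgroup ↥K) := hR' (hVdef ▸ Subgroup.subset_closure (Or.inl rfl))
    have hzR : (⟨z, hzK⟩ : ↥K) ∈ (R : Subgroup ↥K) := hR' (hVdef ▸ Subgroup.subset_closure (Or.inr rfl))
    have hle := IsCyclic.card_pow_eq_one_le (α := ↥(R : Subgroup ↥K)) (n := 2) (by norm_num)
    have hsub : ({1, ⟨_, hxR⟩, ⟨_, hzR⟩} : Finset ↥(R : Subgroup ↥K)) ⊆
        Finset.univ.filter fun a => a ^ 2 = 1 := by
      intro a ha
      simp only [Finset.mem_insert, Finset.mem_singleton] at ha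
      refine Finset.mem_filter.2 ⟨Finset.mem_univ _, ?_⟩
      rcases ha with rfl | rfl | rfl
      · exact one_pow 2
      · exact Subtype.ext (Subtype.ext (by simpa [pow_two] using hxx))
      · exact Subtype.ext (Subtype.ext (by simpa [pow_two] using hzsq))
    have hc3 : ({1, ⟨_, hxR⟩, ⟨_, hzR⟩} : Finset ↥(R : Subgroup ↥K)).card = 3 := by
      rw [Finset.card_eq_three]
      refine ⟨1, _, _, ?_, ?_, ?_, rfl⟩
      · exact fun h => hx1 (congrArg (fun a : ↥(R : Subgroup ↥K) => ((a : ↥K) : G)) h).symm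
      · exact fun h => hz1 (congrArg (fun a : ↥(R : Subgroup ↥K) => ((a : ↥K) : G)) h).symm
      · exact fun h => hne (congrArg (fun a : ↥(R : Subgroup ↥K) => ((a : ↥K) : G)) h)
    have := (Finset.card_le_card hsub).trans hle
    omega
  have hMN : ∀ g, g * z = z * g → g ∈ Subgroup.normalizer (L : Set G) := by
    intro g hg
    rw [hnorm]
    by_contra hgn
    have hodd := hKti g hgn
    have hmem : z ∈ K ⊓ K.map (MulAut.conj g).toMonoidHom :=
      ⟨hzK, z, hzK, by simp [MulAut.conj_apply, hg]⟩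
    have : orderOf (⟨z, hmem⟩ : ↥(K ⊓ K.map (MulAut.conj g).toMonoidHom)) = 2 := by
      rw [← Subgroup.orderOf_coe]; exact hz2
    have hd := orderOf_dvd_natCard (⟨z, hmem⟩ : ↥(K ⊓ K.map (MulAut.conj g).toMonoidHom))
    rw [this] at hd
    exact Nat.not_even_iff_odd.2 hodd (even_iff_two_dvd.2 hd)
  have hNM : ∀ g ∈ Subgroup.normalizer (L : Set G), g * z * g⁻¹ = z := by
    intro g hg
    have hin : g * z * g⁻¹ ∈ L := (Subgroup.mem_normalizer_iff.1 hg z).1 hzL
    refine hzuniq _ ?_ (by rw [show g * z * g⁻¹ * (g * z * g⁻¹) = g * (z * z) * g⁻¹ by group, hzsq]; group)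
      fun h => hz1 (by rwa [mul_inv_eq_one, mul_eq_left] at h)
    rw [hK, Subgroup.mem_centralizer_iff]
    intro x hx
    have hx' : g⁻¹ * x * g ∈ L := (Subgroup.mem_normalizer_iff''.1 hg x).1 hx
    have := Subgroup.mem_centralizer_iff.1 hzK _ hx'
    calc x * (g * z * g⁻¹) = g * ((g⁻¹ * x * g) * z) * g⁻¹ := by group
      _ = g * (z * (g⁻¹ * x * g)) * g⁻¹ := by rw [this]
      _ = _ := by group
  have hdec : ∀ g, g * z = z * g → ∃ k ∈ K, ∃ a : ↥L, g = k * (a : G) := fun g hg =>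
    exists_decomp hqs hout (hMN g hg)
  have hconjsq : ∀ g, (g * z * g⁻¹) * (g * z * g⁻¹) = 1 := fun g => by
    rw [show g * z * g⁻¹ * (g * z * g⁻¹) = g * (z * z) * g⁻¹ by group, hzsq]; group
  have hconj1 : ∀ g, g * z * g⁻¹ ≠ 1 := fun g h => hz1 (conj_eq_one_iff.1 h)
  have hzc : ∀ a : ↥L, (a : G) * z = z * a := fun a => hKcomm z hzK a a.2
  -- the two kinds of conjugates commuting with the central involution
  have step : ∀ g, (g * z * g⁻¹) * z = z * (g * z * g⁻¹) → g * z * g⁻¹ ≠ z →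
      (∃ u : ↥L, (u : G) = g * z * g⁻¹ ∧ u * u = 1 ∧
        (∃ x r : ↥L, x ^ 4 = u ∧ r * u = u * r ∧ r * x * r⁻¹ * x ∈ Subgroup.center ↥L) ∧
        ∃ s : ↥L, s * u = u * s ∧ s * s ∈ Subgroup.center ↥L ∧ s * s ≠ 1) ∨
      (∃ k ∈ K, ∃ u : ↥L, g * z * g⁻¹ = k * (u : G) ∧ k * k = z ∧
        ∀ a : ↥L, a * a * u⁻¹ ∉ Subgroup.center ↥L) := by
    intro g hg hne
    set w := g * z * g⁻¹ with hw
    obtain ⟨k, hk, u, hu⟩ := hdec w hg
    have h1 : k * k * ((u * u : ↥L) : G) = 1 := by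
      rw [← hconjsq g, ← hw, hu, Subgroup.coe_mul]
      calc k * k * ((u : G) * u) = k * (k * u) * u := by group
        _ = k * ((u : G) * k) * u := by rw [hKcomm k hk u u.2]
        _ = _ := by group
    have huu : u * u ∈ Subgroup.center ↥L := by
      rw [hcen, eq_inv_of_mul_eq_one_right h1]
      exact inv_mem (mul_mem hk hk)
    have hun : u ∉ Subgroup.center ↥L := fun h => hne (hzuniq _ (by rw [hu]; exact mul_mem hk ((hcen u).1 h))
      (hconjsq g) (hconj1 g))
    rcases hdich u huu hun with ⟨hu2, hx, hs⟩ | ⟨hu2, hno⟩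
    · left
      rw [hu2, Subgroup.coe_one, mul_one] at h1
      have hk1 : k = 1 ∨ k = z := by
        by_cases h : k = 1
        · exact Or.inl h
        · exact Or.inr (hzuniq k hk h1 h)
      rcases hk1 with rfl | rfl
      · exact ⟨u, by rw [hu, one_mul], hu2, hx, hs⟩
      · have hzu : (zL * u) * (zL * u) = 1 := by
          refine Subtype.ext ?_
          simp only [Subgroup.coe_mul, Subgroup.coe_one]
          rw [← hzdef, ← hu]
          exact hconjsq g
        have hzn : zL * u ∉ Subgroup.center ↥L := fun h => hun (by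
          have := mul_mem (inv_mem z0.2) h
          rwa [hzLdef, inv_mul_cancel_left] at this)
        rcases hdich (zL * u) (by rw [hzu]; exact one_mem _) hzn with ⟨-, hx', hs'⟩ | ⟨h', -⟩
        · exact ⟨zL * u, by rw [hu, Subgroup.coe_mul], hzu, hx', hs'⟩
        · exact absurd hzu h'
    · right
      refine ⟨k, hk, u, hu, ?_, hno⟩
      rcases hcz2 _ huu with h | h
      · exact absurd (Subtype.ext h) hu2
      · rw [h] at h1
        rw [eq_inv_of_mul_eq_one_left h1, inv_eq_of_mul_eq_one_right hzsq]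
  -- the central involution is a square in both centralizers
  have stepS : ∀ g, (g * z * g⁻¹) * z = z * (g * z * g⁻¹) → g * z * g⁻¹ ≠ z →
      ∃ s, s * z = z * s ∧ s * (g * z * g⁻¹) = (g * z * g⁻¹) * s ∧ s * s = z := by
    intro g hg hne
    rcases step g hg hne with ⟨u, hu, -, -, s, hs, hs2, hs1⟩ | ⟨k, hk, u, hu, hkk, -⟩
    · refine ⟨(s : G), hzc s, ?_, ?_⟩
      · rw [← hu]; exact congrArg Subtype.val hs
      · rcases hcz2 _ hs2 with h | h
        · exact absurd (Subtype.ext h) hs1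
        · exact h
    · exact ⟨k, (hKcomm k hk z hzL).symm, by rw [hu, mul_assoc k (u : G), hKcomm k hk u u.2], hkk⟩
  have hback : ∀ g, (g * z * g⁻¹) * z = z * (g * z * g⁻¹) → g * z * g⁻¹ ≠ z →
      (g⁻¹ * z * g⁻¹⁻¹) * z = z * (g⁻¹ * z * g⁻¹⁻¹) ∧ g⁻¹ * z * g⁻¹⁻¹ ≠ z := by
    intro g hg hne
    refine ⟨?_, fun h => hne (by nth_rewrite 1 [← h]; group)⟩
    calc (g⁻¹ * z * g⁻¹⁻¹) * z = g⁻¹ * (z * (g * z * g⁻¹)) * g := by group
      _ = g⁻¹ * ((g * z * g⁻¹) * z) * g := by rw [hg]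
      _ = _ := by group
  have hmv : ∀ g p, p * (g⁻¹ * z * g⁻¹⁻¹) = (g⁻¹ * z * g⁻¹⁻¹) * p → (g * p * g⁻¹) * z = z * (g * p * g⁻¹) := by
    intro g p h
    calc (g * p * g⁻¹) * z = g * (p * (g⁻¹ * z * g⁻¹⁻¹)) * g⁻¹ := by group
      _ = g * ((g⁻¹ * z * g⁻¹⁻¹) * p) * g⁻¹ := by rw [h]
      _ = _ := by group
  have stepA : ∀ g, (g * z * g⁻¹) * z = z * (g * z * g⁻¹) → g * z * g⁻¹ ≠ z →
      ∃ u : ↥L, (u : G) = g * z * g⁻¹ ∧
        ∃ x r : ↥L, x ^ 4 = u ∧ r * u = u * r ∧ r * x * r⁻¹ * x ∈ Subgroup.center ↥L := by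
    intro g hg hne
    rcases step g hg hne with ⟨u, hu, -, hx, -⟩ | ⟨k, hk, u, hu, -, hno⟩
    · exact ⟨u, hu, hx⟩
    · exfalso
      obtain ⟨hg', hne'⟩ := hback g hg hne
      obtain ⟨s, -, hsw, hss⟩ := stepS g⁻¹ hg' hne'
      obtain ⟨k1, hk1, a, ha⟩ := hdec _ (hmv g s hsw)
      have h1 : k1 * k1 * ((a : G) * a) = k * (u : G) := by
        rw [← hu]
        calc k1 * k1 * ((a : G) * a) = k1 * (k1 * a) * a := by group
          _ = k1 * ((a : G) * k1) * a := by rw [hKcomm k1 hk1 a a.2]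
          _ = (k1 * a) * (k1 * a) := by group
          _ = g * (s * s) * g⁻¹ := by rw [← ha]; group
          _ = _ := by rw [hss]
      refine hno a ((hcen _).2 ?_)
      have h2 : ((a * a * u⁻¹ : ↥L) : G) = (k1 * k1)⁻¹ * k := by
        rw [Subgroup.coe_mul, Subgroup.coe_mul, Subgroup.coe_inv,
          eq_inv_mul_of_mul_eq h1]
        group
      rw [h2]
      exact mul_mem (inv_mem (mul_mem hk1 hk1)) hk
  have hno4 : ∀ a : ↥L, (a : G) ^ 4 ≠ z := by
    intro a ha
    have h4 : (a * a) * (a * a) = zL := Subtype.ext (by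
      rw [← hzdef, ← ha, Subgroup.coe_mul, Subgroup.coe_mul, pow_succ, pow_succ, pow_two]; group)
    have h4ne : (a * a) * (a * a) ≠ 1 := fun h => hz1 (by rw [hzdef, ← h4, h, Subgroup.coe_one])
    have hn : a * a ∉ Subgroup.center ↥L := fun h => h4ne (by
      refine Subtype.ext ?_
      rcases hcz2 _ h with e | e <;> rw [Subgroup.coe_mul] at e
      · simp only [Subgroup.coe_mul, Subgroup.coe_one, e, mul_one]
      · simp only [Subgroup.coe_mul, Subgroup.coe_one, e]
        exact hzsq)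
    rcases hdich (a * a) (by rw [h4]; exact z0.2) hn with ⟨h, -⟩ | ⟨-, hno⟩
    · exact h4ne h
    · exact hno a (by rw [mul_inv_cancel]; exact one_mem _)
  have hiso : Cfsg.IsIsolatedInvolution z := by
    refine ⟨hz2, fun g hg => ?_⟩
    by_contra hne
    obtain ⟨w, hw, -⟩ := stepA g hg.eq.symm hne
    obtain ⟨hg', hne'⟩ := hback g hg.eq.symm hne
    obtain ⟨u, hu, x, r, hx4, hru, hxr⟩ := stepA g⁻¹ hg' hne'
    have hxu : x * u = u * x := by rw [← hx4, ← pow_succ, ← pow_succ']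
    have hX := hmv g (x : G) (by rw [← hu]; exact congrArg Subtype.val hxu)
    have hR' := hmv g (r : G) (by rw [← hu]; exact congrArg Subtype.val hru)
    obtain ⟨k, hk, a, ha⟩ := hdec _ hX
    obtain ⟨k', hk', a', ha'⟩ := hdec _ hR'
    have hprod : g * ((r * x * r⁻¹ * x : ↥L) : G) * g⁻¹ ∈ L := by
      rcases hcz2 _ hxr with h | h <;> rw [h]
      · rw [mul_one, mul_inv_cancel]; exact one_mem _
      · rw [← hw]; exact w.2
    set c := k' * k * k'⁻¹ * k with hc
    have hcK : c ∈ K := mul_mem (mul_mem (mul_mem hk' hk) (inv_mem hk')) hk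
    have hsplit : g * ((r * x * r⁻¹ * x : ↥L) : G) * g⁻¹ = c * ((a' * a * a'⁻¹ * a : ↥L) : G) := by
      simp only [Subgroup.coe_mul, Subgroup.coe_inv]
      have c1 : ∀ p ∈ K, ∀ y : ↥L, (y : G) * p = p * y := fun p hp y => hKcomm p hp y y.2
      calc g * ((r : G) * x * (r : G)⁻¹ * x) * g⁻¹
          = (g * r * g⁻¹) * (g * x * g⁻¹) * (g * r * g⁻¹)⁻¹ * (g * x * g⁻¹) := by group
        _ = (k' * a') * (k * a) * ((k' * a')⁻¹) * (k * a) := by rw [ha, ha']
        _ = k' * ((a' : G) * k) * ((a : G) * (a' : G)⁻¹) * k'⁻¹ * (k * a) := by group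
        _ = k' * k * (((a' * a * a'⁻¹ : ↥L) : G) * k'⁻¹) * (k * a) := by
          rw [c1 k hk a']; simp only [Subgroup.coe_mul, Subgroup.coe_inv]; group
        _ = k' * k * k'⁻¹ * (((a' * a * a'⁻¹ : ↥L) : G) * k) * a := by
          rw [c1 k'⁻¹ (inv_mem hk')]; group
        _ = _ := by rw [c1 k hk, hc]; simp only [Subgroup.coe_mul, Subgroup.coe_inv]; group
    have hcL : c ∈ L := by
      rw [hsplit] at hprod
      have := mul_mem hprod (inv_mem (a' * a * a'⁻¹ * a : ↥L).2)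
      rwa [mul_inv_cancel_right] at this
    have hcc := hcz2 ⟨c, hcL⟩ ((hcen ⟨c, hcL⟩).2 hcK)
    obtain ⟨N, -, hodd, hN⟩ := exists_odd_normal (default : Sylow 2 ↥K) (hR default)
    set n : ↥K := ⟨k', hk'⟩ * ⟨k, hk⟩ * ⟨k', hk'⟩⁻¹ * ⟨k, hk⟩⁻¹ with hndef
    have hk4 : k ^ 4 = ((n⁻¹ * n⁻¹ : ↥K) : G) := by
      have hsq : c * c = 1 := by
        rcases hcc with h | h
        · rw [show c = 1 from h, mul_one]
        · rw [show c = z from h, hzsq]
      have hkk : k * k = (n : G)⁻¹ * c := by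
        rw [hndef, hc]; simp only [Subgroup.coe_mul, Subgroup.coe_inv]; group
      have hcn : c * (n : G)⁻¹ = (n : G)⁻¹ * c :=
        hKcomm _ (inv_mem n.2) c hcL
      rw [pow_succ, pow_succ, pow_two, mul_assoc, hkk]
      calc (n : G)⁻¹ * c * ((n : G)⁻¹ * c) = (n : G)⁻¹ * (c * (n : G)⁻¹) * c := by group
        _ = (n : G)⁻¹ * (n : G)⁻¹ * (c * c) := by rw [hcn]; group
        _ = _ := by rw [hsq, mul_one]; rfl
    have hcomm : Commute k (a : G) := (hKcomm k hk a a.2).symm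
    have hz4 : k ^ 4 * (a : G) ^ 4 = z := by
      rw [← hcomm.mul_pow, ← ha, conj_pow, ← SubgroupClass.coe_pow, hx4, hu]
      group
    have hk4L : k ^ 4 ∈ L := by
      rw [eq_mul_inv_of_mul_eq hz4]
      exact mul_mem hzL (inv_mem (pow_mem a.2 4))
    have hk41 : k ^ 4 = 1 := by
      rcases hcz2 ⟨_, hk4L⟩ ((hcen _).2 (pow_mem hk 4)) with h | h
      · exact h
      · exfalso
        have hnN : n⁻¹ * n⁻¹ ∈ N := mul_mem (inv_mem (hN _ _)) (inv_mem (hN _ _))
        have hord : orderOf (⟨_, hnN⟩ : ↥N) = 2 := by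
          rw [← Subgroup.orderOf_coe, ← Subgroup.orderOf_coe, ← hk4]
          show orderOf (k ^ 4) = 2
          rw [show k ^ 4 = z from h, hz2]
        have hd := orderOf_dvd_natCard (⟨_, hnN⟩ : ↥N)
        rw [hord] at hd
        exact Nat.not_even_iff_odd.2 hodd (even_iff_two_dvd.2 hd)
    exact hno4 a (by rw [← hz4, hk41, one_mul])
  have hcommz : ∀ g, g * z = z * g := fun g =>
    (ZStar.commute_of_commutatorsInCore hO (ZStar.commutatorsInCore_of_isolated hiso) g).eq.symm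
  exact Subgroup.normalizer_eq_top_iff.1 (eq_top_iff.2 fun g _ => hMN g (hcommz g))

end CfsgLib.RuStd
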